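import Mathlib

/-!
# Piece (R2) of helper42's plan for S4700 (board #7550): the image of a Sylow `p`-subgroup in the
quotient by a normal `p'`-subgroup has the same order.
-/

set_option autoImplicit false

namespace Cfsg.Agent.Helper60.B43c

universe u

variable {G : Type u} [Group G] [Finite G] {p : ℕ} [Fact p.Prime]

/-- (R2) the image of a Sylow subgroup in the quotient by a normal `p'`-subgroup has the same
order. -/
theorem card_mapSurjective_of_coprime (N : Subgroup G) [N.Normal] (hN : (Nat.card N).Coprime p)
    (P : Sylow p G) :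
    Nat.card (P.mapSurjective (QuotientGroup.mk'_surjective N) : Sylow p (G ⧸ N)) = Nat.card P := by
  have hp : p.Prime := Fact.out
  rw [Sylow.card_eq_multiplicity, Sylow.card_eq_multiplicity]
  have hcard : Nat.card G = Nat.card (G ⧸ N) * Nat.card N :=
    Subgroup.card_eq_card_quotient_mul_card_subgroup N
  have hN0 : Nat.card N ≠ 0 := Nat.card_pos.ne'
  have hQ0 : Nat.card (G ⧸ N) ≠ 0 := Nat.card_pos.ne'
  have hnd : ¬ p ∣ Nat.card N := (Nat.Prime.coprime_iff_not_dvd hp).1 hN.symm
  rw [hcard, Nat.factorization_mul hQ0 hN0, Finsupp.add_apply,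
    Nat.factorization_eq_zero_of_not_dvd hnd, add_zero]

end Cfsg.Agent.Helper60.B43c
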